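import Mathlib
import Cfsg.Prelude.Def_LocalEven

/-!
Two elements inducing a symmetric group of degree three on an elementary abelian `2`-subgroup
give a section isomorphic to the symmetric group of degree four.
-/

namespace Cfsg.Agent.Lib.Tech42.ClassTwoFactor

set_option autoImplicit false
set_option linter.style.haveILetI false

variable {G : Type*} [Group G]

theorem mem_normalizer_of_conj_le [Finite G] {U : Subgroup G} {g : G}
    (h : ∀ u ∈ U, g * u * g⁻¹ ∈ U) : g ∈ Subgroup.normalizer (U : Set G) := by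
  have hm : U.map (MulAut.conj g).toMonoidHom = U :=
    Subgroup.eq_of_le_of_card_ge (by rintro _ ⟨u, hu, rfl⟩; exact h u hu)
      (Subgroup.card_map_of_injective (MulAut.conj g).injective).ge
  rw [Subgroup.mem_normalizer_iff]
  intro x
  refine ⟨h x, fun hx => ?_⟩
  rw [← hm] at hx
  obtain ⟨u, hu, he⟩ := Subgroup.mem_map.mp hx
  exact (MulAut.conj g).injective he ▸ hu

theorem card_eq_four_of {u w : G} (U : Subgroup G) (hU : (U : Set G) = {1, u, w, u * w})
    (hu : u ≠ 1) (hw : w ≠ 1) (huw : u ≠ w) (h2 : u * u = 1) : Nat.card U = 4 := by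
  have h : Nat.card U = (U : Set G).ncard := rfl
  rw [h, hU]
  have e1 : u * w ≠ 1 := fun h => huw (mul_left_cancel (h2.trans h.symm))
  have e2 : u * w ≠ u := fun h => hw (mul_eq_left.mp h)
  have e3 : u * w ≠ w := fun h => hu (mul_eq_right.mp h)
  rw [Set.ncard_insert_of_notMem (by simp [hu.symm, hw.symm, e1.symm]),
    Set.ncard_insert_of_notMem (by simp [huw, e2.symm]),
    Set.ncard_insert_of_notMem (by simp [e3.symm]), Set.ncard_singleton]

/-- Conjugation. -/
def act (g v : G) : G := g * v * g⁻¹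

/-- See the module docstring. -/
theorem involves_of_pair [Finite G] (V : Subgroup G)
    (hV : ∀ x ∈ V, ∀ y ∈ V, x * y = y * x ∧ x * x = 1) (s t : G)
    (hs : ∀ v ∈ V, s * v * s⁻¹ ∈ V) (ht : ∀ v ∈ V, t * v * t⁻¹ ∈ V)
    (hs2 : ∀ v ∈ V, s * (s * v * s⁻¹) * s⁻¹ = v) (ht2 : ∀ v ∈ V, t * (t * v * t⁻¹) * t⁻¹ = v)
    (h3 : ∀ v ∈ V, (s * t) ^ 3 * v * ((s * t) ^ 3)⁻¹ = v)
    (hne : ∃ v ∈ V, s * t * v * (s * t)⁻¹ ≠ v) :
    Cfsg.Involves (Equiv.Perm (Fin 4)) G := by
  classical
  set c := s * t with hc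
  replace hs2 : ∀ v ∈ V, act s (act s v) = v := hs2
  replace ht2 : ∀ v ∈ V, act t (act t v) = v := ht2
  replace hs : ∀ v ∈ V, act s v ∈ V := hs
  replace ht : ∀ v ∈ V, act t v ∈ V := ht
  have hmulσ : ∀ g x y : G, act g (x * y) = act g x * act g y := fun g x y => by simp only [act]; group
  have hcomp : ∀ g h x : G, act g (act h x) = act (g * h) x := fun g h x => by simp only [act]; group
  have hcV : ∀ v ∈ V, act c v ∈ V := fun v hv => by
    rw [hc, ← hcomp]; exact hs _ (ht v hv)
  have hc3 : ∀ v ∈ V, act c (act c (act c v)) = v := fun v hv => by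
    rw [hcomp, hcomp]
    have := h3 v hv
    simp only [act]
    rwa [show c * c * c = c ^ 3 by simp [pow_succ, mul_assoc]]
  -- `s c = c⁻¹ s` on `V`
  have hsc : ∀ v ∈ V, act s (act c v) = act c (act c (act s v)) := by
    intro v hv
    have h1 : act c (act s (act c v)) = act s v := by
      rw [hc, ← hcomp s t (act s (act (s * t) v)), ← hcomp s t v]
      rw [hs2 _ (ht v hv), ht2 v hv]
    rw [← h1, hc3 _ (hs _ (hcV v hv))]
  have hcomm : ∀ {x y : G}, x ∈ V → y ∈ V → x * y = y * x := fun hx hy => (hV _ hx _ hy).1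
  have hinv : ∀ {x : G}, x ∈ V → x * x = 1 := fun hx => (hV _ hx _ hx).2
  -- an element of `[V, c]` fixed by `s`
  obtain ⟨u, huV, hu1, hsu, hucc⟩ : ∃ u ∈ V, u ≠ 1 ∧ act s u = u ∧ act c (act c u) = u * act c u := by
    obtain ⟨v, hv, hne⟩ := hne
    set e := v * act c v with he
    have heV : e ∈ V := mul_mem hv (hcV v hv)
    have he1 : e ≠ 1 := fun h => hne (mul_left_cancel (h.trans (hinv hv).symm))
    have hee : act c (act c e) = e * act c e := by
      rw [he, hmulσ, hmulσ, hc3 v hv]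
      calc act c (act c v) * v = v * act c (act c v) := hcomm (hcV _ (hcV v hv)) hv
        _ = v * ((act c v * act c v) * act c (act c v)) := by rw [hinv (hcV v hv), one_mul]
        _ = v * act c v * (act c v * act c (act c v)) := by simp only [mul_assoc]
    clear_value e
    by_cases hse : act s e = e
    · exact ⟨e, heV, he1, hse, hee⟩
    · have hseV : act s e ∈ V := hs e heV
      refine ⟨e * act s e, mul_mem heV hseV, ?_, ?_, ?_⟩
      · exact fun h => hse ((mul_left_cancel (h.trans (hinv heV).symm)))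
      · rw [hmulσ, hs2 e heV, hcomm hseV heV]
      · -- `act c (act c (act s e)) = act s (act c e)`
        have h1 : act c (act s e) = act s (act c (act c e)) := by
          rw [hsc _ (hcV e heV), hsc e heV, hc3 _ (hcV _ hseV)]
        rw [hmulσ, hmulσ, ← hsc e heV, h1, hee, hmulσ s]
        generalize e = x at heV hseV ⊢
        have ha : act c x ∈ V := hcV x heV
        have hb : act s (act c x) ∈ V := hs _ ha
        calc x * act c x * act s (act c x)
            = x * act c x * ((act s x * act s x) * act s (act c x)) := by rw [hinv hseV, one_mul]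
          _ = x * (act c x * act s x) * (act s x * act s (act c x)) := by simp only [mul_assoc]
          _ = x * (act s x * act c x) * (act s x * act s (act c x)) := by rw [hcomm ha hseV]
          _ = x * act s x * (act c x * (act s x * act s (act c x))) := by simp only [mul_assoc]
  set w := act c u with hw
  have hwV : w ∈ V := hcV u huV
  have huw : u ≠ w := by
    intro h
    rw [← h, ← hw, ← h, hinv huV] at hucc
    exact hu1 hucc
  have hw1 : w ≠ 1 := fun h => hu1 (by
    have h1 : c * u * c⁻¹ = 1 := h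
    calc u = c⁻¹ * (c * u * c⁻¹) * c := by group
      _ = 1 := by rw [h1]; group)
  let U : Subgroup G :=
    { carrier := {1, u, w, u * w}
      one_mem' := by simp
      mul_mem' := by
        have a := hinv huV; have b := hinv hwV; have d := hcomm hwV huV
        have a' : ∀ x, u * (u * x) = x := fun x => by rw [← mul_assoc, a, one_mul]
        have b' : ∀ x, w * (w * x) = x := fun x => by rw [← mul_assoc, b, one_mul]
        have d' : ∀ x, w * (u * x) = u * (w * x) := fun x => by rw [← mul_assoc, d, mul_assoc]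
        rintro x y (rfl | rfl | rfl | rfl) (rfl | rfl | rfl | rfl) <;>
          simp [mul_assoc, a, b, a', b', d, d']
      inv_mem' := by
        rintro x (rfl | rfl | rfl | rfl)
        · simp
        · rw [inv_eq_of_mul_eq_one_left (hinv huV)]; simp
        · rw [inv_eq_of_mul_eq_one_left (hinv hwV)]; simp
        · rw [inv_eq_of_mul_eq_one_left (hinv (mul_mem huV hwV))]; simp }
  have hUcard : Nat.card U = 4 := card_eq_four_of U rfl hu1 hw1 huw (hinv huV)
  have hUV : U ≤ V := by
    rintro x (rfl | rfl | rfl | rfl)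
    exacts [one_mem V, huV, hwV, mul_mem huV hwV]
  have huU : u ∈ U := Or.inr (Or.inl rfl)
  have hwU : w ∈ U := Or.inr (Or.inr (Or.inl rfl))
  have hscc : act s w = u * w := by rw [hw, hsc u huV, hsu, hucc]
  have hcw : act c w = u * w := hucc
  have hstab : ∀ g, act g u ∈ U → act g w ∈ U → g ∈ Subgroup.normalizer (U : Set G) := by
    intro g h1 h2
    refine mem_normalizer_of_conj_le ?_
    rintro x (rfl | rfl | rfl | rfl)
    · simpa using one_mem U
    · exact h1
    · exact h2
    · have := hmulσ g u w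
      simp only [act] at this
      rw [this]; exact mul_mem h1 h2
  set N := Subgroup.normalizer (U : Set G) with hN
  have hsN : s ∈ N := hstab s (by rw [hsu]; exact huU) (by rw [hscc]; exact mul_mem huU hwU)
  have hcN : c ∈ N := hstab c hwU (by rw [hcw]; exact mul_mem huU hwU)
  set C := Subgroup.centralizer (U : Set G) with hC
  have hmemC : ∀ g, g ∈ C ↔ act g u = u ∧ act g w = w := by
    intro g
    rw [hC, Subgroup.mem_centralizer_iff]
    constructor
    · intro h
      exact ⟨by show g * u * g⁻¹ = u; rw [← h u huU, mul_inv_cancel_right],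
        by show g * w * g⁻¹ = w; rw [← h w hwU, mul_inv_cancel_right]⟩
    · rintro ⟨h1, h2⟩ x hx
      have e1 : g * u = u * g := mul_inv_eq_iff_eq_mul.mp h1
      have e2 : g * w = w * g := mul_inv_eq_iff_eq_mul.mp h2
      rcases hx with rfl | rfl | rfl | rfl
      · simp
      · exact e1.symm
      · exact e2.symm
      · rw [mul_assoc, ← e2, ← mul_assoc, ← e1, mul_assoc]
  have hCN : C ≤ N := Subgroup.centralizer_le_normalizer _
  have hcC : c ∉ C := fun h => huw ((hmemC c).mp h).1.symm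
  have hc3C : c ^ 3 ∈ C :=
    (hmemC _).mpr ⟨h3 u huV, h3 w hwV⟩
  -- `N₀ = C ⟨c⟩`
  set N0 := C ⊔ Subgroup.zpowers c with hN0
  have hN0N : N0 ≤ N := sup_le hCN (Subgroup.zpowers_le.mpr hcN)
  have hCnorm : ∀ g ∈ N, ∀ x ∈ C, g * x * g⁻¹ ∈ C := by
    intro g hg x hx
    rw [hC, Subgroup.mem_centralizer_iff]
    intro y hy
    have h1 := Subgroup.mem_centralizer_iff.mp hx _
      ((Subgroup.mem_normalizer_iff''.mp hg y).mp hy)
    calc y * (g * x * g⁻¹) = g * ((g⁻¹ * y * g) * x) * g⁻¹ := by group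
      _ = g * (x * (g⁻¹ * y * g)) * g⁻¹ := by rw [h1]
      _ = g * x * g⁻¹ * y := by group
  have hscC : s * c * s⁻¹ * c ∈ C := by
    rw [hmemC]
    have hsi : ∀ {x}, x ∈ V → act s⁻¹ x = act s x := by
      intro x hx
      conv_lhs => rw [← show act s (act s x) = x from hs2 x hx]
      rw [hcomp, inv_mul_cancel]
      simp [act]
    refine ⟨?_, ?_⟩ <;> rw [← hcomp (s * c * s⁻¹) c, ← hcomp (s * c) s⁻¹, ← hcomp s c]
    · rw [hsi (hcV u huV), hsc u huV, hsu, hc3 u huV, hsu]
    · rw [hsi (hcV w hwV), hsc w hwV, hc3 _ (hs w hwV), hs2 w hwV]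
  have hsN0 : s ∈ Subgroup.normalizer (N0 : Set G) := by
    refine mem_normalizer_of_conj_le fun x hx => ?_
    have hle : N0 ≤ N0.comap (MulAut.conj s).toMonoidHom := by
      rw [hN0]
      refine sup_le (fun y hy => ?_) (Subgroup.zpowers_le.mpr ?_)
      · exact Subgroup.mem_sup_left (hCnorm s hsN y hy)
      · show s * c * s⁻¹ ∈ C ⊔ Subgroup.zpowers c
        have := mul_mem (Subgroup.mem_sup_left (T := Subgroup.zpowers c) hscC)
          (Subgroup.mem_sup_right (S := C) (inv_mem (Subgroup.mem_zpowers c)))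
        simpa using this
    exact hle hx
  haveI : Fact (Nat.Prime 3) := ⟨Nat.prime_three⟩
  obtain ⟨P⟩ := (inferInstance : Nonempty (Sylow 3 N0))
  set Pm := (P : Subgroup N0).map N0.subtype with hPm
  have hPp : IsPGroup 3 Pm := P.isPGroup'.map _
  -- an element of `N(P)` acting as `s` up to `N₀`
  obtain ⟨n, hn, hns⟩ : ∃ n ∈ N0, n * s ∈ Subgroup.normalizer (Pm : Set G) := by
    have hPs : IsPGroup 3 (Pm.map (MulAut.conj s).toMonoidHom) := hPp.map _
    have hle : Pm.map (MulAut.conj s).toMonoidHom ≤ N0 := by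
      rintro _ ⟨x, hx, rfl⟩
      exact (Subgroup.mem_normalizer_iff.mp hsN0 x).mp (Subgroup.map_subtype_le _ hx)
    obtain ⟨T, hT⟩ := (hPs.comap_subtype (K := N0)).exists_le_sylow
    obtain ⟨k, hk⟩ := MulAction.exists_smul_eq N0 T P
    refine ⟨k, k.2, mem_normalizer_of_conj_le fun x hx => ?_⟩
    have h1 : s * x * s⁻¹ ∈ N0 := hle ⟨x, hx, rfl⟩
    have h2 : k * ⟨_, h1⟩ * k⁻¹ ∈ (P : Subgroup N0) := by
      rw [← hk]
      exact Subgroup.smul_mem_pointwise_smul _ (MulAut.conj k) _ (hT ⟨x, hx, rfl⟩)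
    refine ⟨_, h2, ?_⟩
    show (k : G) * (s * x * s⁻¹) * (k : G)⁻¹ = _
    group
  -- an element of `P` outside `C`
  obtain ⟨c', hc'P, hc'C⟩ : ∃ c' ∈ Pm, c' ∉ C := by
    by_contra hno
    push Not at hno
    haveI : (C.subgroupOf N0).Normal := ⟨fun x hx g =>
      Subgroup.mem_subgroupOf.mpr (hCnorm g (hN0N g.2) x (Subgroup.mem_subgroupOf.mp hx))⟩
    have hd : ¬ 3 ∣ (C.subgroupOf N0).index := fun h =>
      P.not_dvd_index (h.trans (Subgroup.index_dvd_of_le fun x hx =>
        Subgroup.mem_subgroupOf.mpr (hno _ ⟨x, hx, rfl⟩)))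
    have hcN0 : c ∈ N0 := Subgroup.mem_sup_right (Subgroup.mem_zpowers c)
    have h1 : c ^ (C.subgroupOf N0).index ∈ C :=
      Subgroup.pow_index_mem (C.subgroupOf N0) ⟨c, hcN0⟩
    have h2 : c ^ Nat.gcd (C.subgroupOf N0).index 3 ∈ C := by
      rw [← zpow_natCast, Nat.gcd_eq_gcd_ab, zpow_add, zpow_mul, zpow_mul, zpow_natCast,
        zpow_natCast]
      exact mul_mem (zpow_mem h1 _) (zpow_mem hc3C _)
    rw [(Nat.prime_three.coprime_iff_not_dvd.mpr hd).symm.gcd_eq_one, pow_one] at h2
    exact hcC h2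
  -- actions of elements of `N₀`
  have hN0act : ∀ x ∈ N0, x ∈ C ∨
      (act x u = w ∧ act x w = u * w) ∨ (act x u = u * w ∧ act x w = u) := by
    intro x hx
    have hxx : ∀ y ∈ Subgroup.zpowers c, y ∈ C ∨
        (act y u = w ∧ act y w = u * w) ∨ (act y u = u * w ∧ act y w = u) := by
      intro y hy
      obtain ⟨i, rfl⟩ := Subgroup.mem_zpowers_iff.mp hy
      have hdecomp : c ^ i = c ^ (i % 3).toNat * (c ^ 3) ^ (i / 3) := by
        rw [← zpow_natCast c 3, ← zpow_mul, ← zpow_natCast, ← zpow_add,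
          Int.toNat_of_nonneg (Int.emod_nonneg i (by norm_num))]
        congr 1; omega
      have hb := zpow_mem hc3C (i / 3)
      have hlt : (i % 3).toNat < 3 := by omega
      rw [hdecomp]
      obtain ⟨b1, b2⟩ := (hmemC _).mp hb
      interval_cases (i % 3).toNat
      · rw [pow_zero, one_mul]; exact Or.inl hb
      · rw [pow_one]
        exact Or.inr (Or.inl ⟨by rw [← hcomp, b1], by rw [← hcomp, b2, hcw]⟩)
      · refine Or.inr (Or.inr ⟨?_, ?_⟩)
        · rw [← hcomp, b1, pow_two, ← hcomp, ← hw, hcw]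
        · rw [← hcomp, b2, pow_two, ← hcomp, hw, hc3 u huV]
    haveI : ((C.subgroupOf N)).Normal := ⟨fun x hx g =>
      Subgroup.mem_subgroupOf.mpr (hCnorm g g.2 x (Subgroup.mem_subgroupOf.mp hx))⟩
    have hle : Subgroup.zpowers c ≤ Subgroup.normalizer (C : Set G) :=
      Subgroup.zpowers_le.mpr (mem_normalizer_of_conj_le (hCnorm c hcN))
    obtain ⟨y, hy, z, hz, rfl⟩ :=
      (Subgroup.coe_mul_of_right_le_normalizer_left C (Subgroup.zpowers c) hle).le hx
    obtain ⟨y1, y2⟩ := (hmemC y).mp hy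
    have y3 : act y (u * w) = u * w := by rw [hmulσ, y1, y2]
    rcases hxx z hz with h | ⟨a, b⟩ | ⟨a, b⟩
    · exact Or.inl (mul_mem hy h)
    · exact Or.inr (Or.inl ⟨by rw [← hcomp, a, y2], by rw [← hcomp, b, y3]⟩)
    · exact Or.inr (Or.inr ⟨by rw [← hcomp, a, y3], by rw [← hcomp, b, y1]⟩)
  have hc'N0 : c' ∈ N0 := Subgroup.map_subtype_le _ hc'P
  -- `U ∩ N(P) = 1`
  have hUP : ∀ x ∈ U, x ∈ Subgroup.normalizer (Pm : Set G) → x = 1 := by
    intro x hx hxP
    have h1 : x * c' * x⁻¹ * c'⁻¹ ∈ Pm :=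
      mul_mem ((Subgroup.mem_normalizer_iff.mp hxP c').mp hc'P) (inv_mem hc'P)
    have h2 : x * c' * x⁻¹ * c'⁻¹ ∈ U := by
      have := mul_mem hx ((Subgroup.mem_normalizer_iff.mp (hN0N hc'N0) x⁻¹).mp (inv_mem hx))
      simpa [mul_assoc] using this
    have h3' : x * c' * x⁻¹ * c'⁻¹ = 1 := by
      obtain ⟨k, hk⟩ := hPp ⟨_, h1⟩
      have hk' : (x * c' * x⁻¹ * c'⁻¹) ^ 3 ^ k = 1 := congrArg Subtype.val hk
      have h4 : orderOf (x * c' * x⁻¹ * c'⁻¹) ∣ 2 := orderOf_dvd_of_pow_eq_one
        (by rw [pow_two]; exact hinv (hUV h2))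
      exact orderOf_eq_one_iff.mp (Nat.eq_one_of_dvd_coprimes
        (Nat.Coprime.pow_right k (by norm_num : Nat.Coprime 2 3)) h4 (orderOf_dvd_of_pow_eq_one hk'))
    have hfx : act c' x = x := by
      have hcom : x * c' = c' * x := mul_inv_eq_iff_eq_mul.mp (mul_inv_eq_one.mp h3')
      show c' * x * c'⁻¹ = x
      rw [← hcom, mul_inv_cancel_right]
    by_contra hx1
    rcases (hN0act c' hc'N0) with h | ⟨a, b⟩ | ⟨a, b⟩
    · exact hc'C h
    all_goals
      rcases hx with rfl | rfl | rfl | rfl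
      · exact hx1 rfl
      · rw [a] at hfx
        first
          | exact huw hfx.symm
          | exact hw1 (mul_eq_left.mp hfx)
      · rw [b] at hfx
        first
          | exact hu1 (mul_eq_right.mp hfx)
          | exact huw hfx
      · rw [hmulσ, a, b] at hfx
        first
          | (rw [← mul_assoc, hcomm hwV huV, mul_assoc, hinv hwV, mul_one] at hfx
             exact hw1 (mul_eq_left.mp hfx.symm))
          | (rw [mul_assoc, hcomm hwV huV, ← mul_assoc, hinv huV, one_mul] at hfx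
             exact hu1 (mul_eq_right.mp hfx.symm))
  -- the group `U M`
  set M := N ⊓ Subgroup.normalizer (Pm : Set G) with hM
  set X := U ⊔ M with hX
  have hMU : M ≤ Subgroup.normalizer (U : Set G) := inf_le_left
  set Mx := M.subgroupOf X with hMx
  have hMX : M ≤ X := le_sup_right
  let q : U → X ⧸ Mx := fun x => ((⟨x, Subgroup.mem_sup_left x.2⟩ : X) : X ⧸ Mx)
  have hq : Function.Bijective q := by
    constructor
    · intro x y h
      have h1 : (x : G)⁻¹ * y ∈ M := Subgroup.mem_subgroupOf.mp (QuotientGroup.eq.mp h)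
      exact Subtype.ext (inv_mul_eq_one.mp
        (hUP _ (mul_mem (inv_mem x.2) y.2) (Subgroup.mem_inf.mp h1).2))
    · intro y
      obtain ⟨⟨g, hg⟩, rfl⟩ := QuotientGroup.mk_surjective y
      rw [hX] at hg
      obtain ⟨x, hx, m, hm, rfl⟩ :=
        (Subgroup.coe_mul_of_right_le_normalizer_left U M hMU).le hg
      refine ⟨⟨x, hx⟩, QuotientGroup.eq.mpr (Subgroup.mem_subgroupOf.mpr ?_)⟩
      show x⁻¹ * (x * m) ∈ M
      simpa using hm
  have hidx : Mx.index = 4 := by
    rw [Subgroup.index_eq_card, ← Nat.card_congr (Equiv.ofBijective q hq), hUcard]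
  set π := MulAction.toPermHom X (X ⧸ Mx) with hπ
  have hker : π.ker ≤ Mx ⊓ C.subgroupOf X := by
    rw [hπ, ← Subgroup.normalCore_eq_ker]
    refine le_inf (Subgroup.normalCore_le _) ?_
    intro m hm
    rw [Subgroup.mem_subgroupOf, hC, Subgroup.mem_centralizer_iff]
    intro x hx
    have hmM : (m : G) ∈ M := Subgroup.mem_subgroupOf.mp (Subgroup.normalCore_le _ hm)
    have h1 : x * (m : G) * x⁻¹ ∈ M :=
      Subgroup.mem_subgroupOf.mp (hm ⟨x, Subgroup.mem_sup_left hx⟩)
    have h2 : x * (m : G) * x⁻¹ * (m : G)⁻¹ = 1 := by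
      refine hUP _ ?_ (mul_mem (Subgroup.mem_inf.mp h1).2 (inv_mem (Subgroup.mem_inf.mp hmM).2))
      have := mul_mem hx ((Subgroup.mem_normalizer_iff.mp (hMU hmM) x⁻¹).mp (inv_mem hx))
      simpa [mul_assoc] using this
    exact mul_inv_eq_iff_eq_mul.mp (mul_inv_eq_one.mp h2)
  -- `C` has index at least `6` in `M`
  set K := C.subgroupOf X ⊓ Mx with hK
  have hK6 : 6 ≤ K.relIndex Mx := by
    rw [hK, Subgroup.inf_relIndex_right]
    haveI : ((C.subgroupOf X).subgroupOf Mx).Normal := by
      constructor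
      intro x hx g
      simp only [Subgroup.mem_subgroupOf] at hx ⊢
      exact hCnorm _ (Subgroup.mem_inf.mp (Subgroup.mem_subgroupOf.mp g.2)).1 _ hx
    have hord : ∀ (g : G), g ∈ M → g ∉ C → ∀ (r : ℕ), r.Prime → g ^ r ∈ C →
        r ∣ (C.subgroupOf X).relIndex Mx := by
      intro g hgM hgC r hr hgr
      set gx : Mx := ⟨⟨g, hMX hgM⟩, Subgroup.mem_subgroupOf.mpr hgM⟩
      have ho : orderOf (QuotientGroup.mk' ((C.subgroupOf X).subgroupOf Mx) gx) = r := by
        haveI := Fact.mk hr
        refine orderOf_eq_prime ?_ ?_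
        · rw [← map_pow]
          exact (QuotientGroup.eq_one_iff _).mpr (by simpa [Subgroup.mem_subgroupOf] using hgr)
        · intro h
          exact hgC (by simpa [Subgroup.mem_subgroupOf] using (QuotientGroup.eq_one_iff _).mp h)
      rw [Subgroup.relIndex, Subgroup.index_eq_card, ← ho]
      exact orderOf_dvd_natCard _
    have hc'M : c' ∈ M := Subgroup.mem_inf.mpr ⟨hN0N hc'N0, Subgroup.le_normalizer hc'P⟩
    have h3d : 3 ∣ (C.subgroupOf X).relIndex Mx := by
      refine hord c' hc'M hc'C 3 Nat.prime_three ?_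
      rw [hmemC, pow_succ, pow_two]
      rcases hN0act c' hc'N0 with h | ⟨a, b⟩ | ⟨a, b⟩
      · exact absurd h hc'C
      · refine ⟨?_, ?_⟩
        · rw [← hcomp, ← hcomp, a, b, hmulσ, a, b, hcomm huV hwV, ← mul_assoc, hinv hwV, one_mul]
        · rw [← hcomp, ← hcomp, b, hmulσ, a, b, hcomm huV hwV, ← mul_assoc, hinv hwV, one_mul, a]
      · refine ⟨?_, ?_⟩
        · rw [← hcomp, ← hcomp, a, hmulσ, a, b, hcomm huV hwV, mul_assoc, hinv huV, mul_one, b]
        · rw [← hcomp, ← hcomp, b, a, hmulσ, a, b, hcomm huV hwV, mul_assoc, hinv huV, mul_one]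
    have h2d : 2 ∣ (C.subgroupOf X).relIndex Mx := by
      have hnsM : n * s ∈ M := Subgroup.mem_inf.mpr ⟨mul_mem (hN0N hn) hsN, hns⟩
      refine hord (n * s) hnsM ?_ 2 Nat.prime_two ?_
      · intro h
        obtain ⟨a, b⟩ := (hmemC _).mp h
        rw [← hcomp, hsu] at a
        rw [← hcomp, hscc, hmulσ, a] at b
        rcases hN0act n hn with h' | ⟨a', b'⟩ | ⟨a', b'⟩
        · rw [((hmemC n).mp h').2] at b
          exact hu1 (mul_eq_right.mp b)
        · exact huw (a.symm.trans a')
        · exact hw1 (mul_eq_left.mp (a'.symm.trans a))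
      · simp only [hmemC, pow_two, ← hcomp, hsu, hscc]
        have e0 : u * (u * w) = w := by rw [← mul_assoc, hinv huV, one_mul]
        have e1 : w * (u * w) = u := by
          rw [← mul_assoc, hcomm hwV huV, mul_assoc, hinv hwV, mul_one]
        have e2 : u * w * u = w := by
          rw [mul_assoc, hcomm hwV huV, ← mul_assoc, hinv huV, one_mul]
        rcases hN0act n hn with h' | ⟨a, b⟩ | ⟨a, b⟩
        · obtain ⟨a, b⟩ := (hmemC n).mp h'
          simp only [hmulσ, hsu, hscc, a, b, e0, e1, e2, and_self]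
        · simp only [hmulσ, hsu, hscc, a, b, e0, e1, e2, and_self]
        · simp only [hmulσ, hsu, hscc, a, b, e0, e1, e2, and_self]
    have h6 : 6 ∣ (C.subgroupOf X).relIndex Mx :=
      Nat.Coprime.mul_dvd_of_dvd_of_dvd (by norm_num : Nat.Coprime 2 3) h2d h3d
    exact Nat.le_of_dvd (Nat.pos_of_ne_zero Subgroup.index_ne_zero_of_finite) h6
  have hsurj : Function.Surjective π := by
    rw [← MonoidHom.range_eq_top, ← Subgroup.card_eq_iff_eq_top]
    have h1 : Nat.card (Equiv.Perm (X ⧸ Mx)) = 24 := by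
      rw [Nat.card_perm, ← Subgroup.index_eq_card, hidx]; rfl
    refine le_antisymm (Subgroup.card_le_card_group _) ?_
    rw [h1, ← Subgroup.index_ker]
    have h3 : K.index = K.relIndex Mx * Mx.index :=
      (Subgroup.relIndex_mul_index inf_le_right).symm
    have h4 : K.index ≤ π.ker.index := Nat.le_of_dvd
      (Nat.pos_of_ne_zero Subgroup.index_ne_zero_of_finite)
      (Subgroup.index_dvd_of_le (hker.trans (le_of_eq (inf_comm _ _))))
    rw [h3, hidx] at h4
    omega
  refine ⟨X, π.ker.map X.subtype, ?_, ?_⟩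
  · rw [Subgroup.subgroupOf, Subgroup.comap_map_eq_self_of_injective X.subtype_injective]
    infer_instance
  · have e : X ⧸ Mx ≃ Fin 4 := Finite.equivFinOfCardEq (by rw [← Subgroup.index_eq_card, hidx])
    have heq : (π.ker.map X.subtype).subgroupOf X = π.ker := by
      rw [Subgroup.subgroupOf, Subgroup.comap_map_eq_self_of_injective X.subtype_injective]
    haveI : ((π.ker.map X.subtype).subgroupOf X).Normal := by rw [heq]; infer_instance
    exact ⟨(QuotientGroup.quotientMulEquivOfEq heq).trans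
      ((QuotientGroup.quotientKerEquivOfSurjective π hsurj).trans e.permCongrHom)⟩

end Cfsg.Agent.Lib.Tech42.ClassTwoFactor
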