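import Cfsg.Agent.Lib.Tech42.ClassTwoFactor.Pair
import Cfsg.Agent.Lib.Tech42.ClassTwoFactor.SFour
import Cfsg.Agent.Lib.PLocal.Thompson
import Cfsg.Agent.Lib.PSolvable.HallHigman

/-!
Thompson factorization for `2`-constrained groups without a symmetric section of degree four whose
Sylow `2`-subgroups have class at most two.
-/

namespace Cfsg.Agent.Lib.Tech42.ClassTwoFactor

open scoped commutatorElement

set_option autoImplicit false
set_option linter.style.haveILetI false

variable {G : Type*} [Group G]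

theorem commute_of_lowerCentralSeries_two {S : Subgroup G} (hcl : S.lowerCentralSeries 2 = ⊥)
    {a b c : G} (ha : a ∈ S) (hb : b ∈ S) (hc : c ∈ S) : c * ⁅a, b⁆ = ⁅a, b⁆ * c := by
  have h : ⁅⁅a, b⁆, c⁆ ∈ S.lowerCentralSeries 2 :=
    Subgroup.commutator_mem_commutator (Subgroup.commutator_mem_commutator ha hb) hc
  rw [hcl, Subgroup.mem_bot] at h
  exact (commutatorElement_eq_one_iff_mul_comm.mp h).symm

theorem involves_of_quotient (N : Subgroup G) [N.Normal] {H : Type*} [Group H]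
    (h : Cfsg.Involves H (G ⧸ N)) : Cfsg.Involves H G := by
  obtain ⟨K, R, hR, ⟨e⟩⟩ := h
  set π := QuotientGroup.mk' N with hπ
  let g : K.comap π →* K := π.subgroupComap K
  have hg : Function.Surjective g := fun ⟨y, hy⟩ => by
    obtain ⟨x, rfl⟩ := QuotientGroup.mk'_surjective N y
    exact ⟨⟨x, hy⟩, rfl⟩
  let f : K.comap π →* K ⧸ R.subgroupOf K := (QuotientGroup.mk' (R.subgroupOf K)).comp g
  have hf : Function.Surjective f := (QuotientGroup.mk'_surjective _).comp hg
  have hker : f.ker = (R.comap π).subgroupOf (K.comap π) := by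
    ext x
    rw [MonoidHom.mem_ker, MonoidHom.comp_apply, QuotientGroup.mk'_apply, QuotientGroup.eq_one_iff]
    rfl
  haveI : ((R.comap π).subgroupOf (K.comap π)).Normal := hker ▸ f.normal_ker
  exact ⟨K.comap π, R.comap π, inferInstance,
    ⟨(QuotientGroup.quotientMulEquivOfEq hker.symm).trans
      ((QuotientGroup.quotientKerEquivOfSurjective f hf).trans e)⟩⟩

variable [Finite G]

/-- The case `O_{2'}(G) = 1`. -/
theorem le_pCore (hc : Subgroup.centralizer (Cfsg.pCore 2 G : Set G) ≤ Cfsg.pCore 2 G)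
    (hS4 : ¬ Cfsg.Involves (Equiv.Perm (Fin 4)) G) (S : Sylow 2 G)
    (hcl : (S : Subgroup G).lowerCentralSeries 2 = ⊥) (A : Subgroup G)
    (hA : A ∈ PGroups.maxElemAbIn 2 (S : Subgroup G)) : A ≤ Cfsg.pCore 2 G := by
  haveI : Fact (Nat.Prime 2) := ⟨Nat.prime_two⟩
  obtain ⟨hAS, hAel, hAmax⟩ := hA
  haveI := hAel.1
  have hAcomm : ∀ x ∈ A, ∀ y ∈ A, x * y = y * x := fun x hx y hy =>
    congrArg Subtype.val (hAel.1.is_comm.comm ⟨x, hx⟩ ⟨y, hy⟩)
  have hAexp : ∀ x ∈ A, x * x = 1 := fun x hx => by rw [← pow_two]; exact hAel.2 x hx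
  set Q := Cfsg.pCore 2 G with hQdef
  haveI hQn : Q.Normal := inferInstance
  have hQp : IsPGroup 2 Q := PSolvable.isPGroup_pCore
  have hQS : Q ≤ (S : Subgroup G) := Cores.pCore_le_sylow S
  have hcomm3 : ∀ {a b c : G}, a ∈ (S : Subgroup G) → b ∈ (S : Subgroup G) →
      c ∈ (S : Subgroup G) → c * ⁅a, b⁆ = ⁅a, b⁆ * c :=
    fun ha hb hc => commute_of_lowerCentralSeries_two hcl ha hb hc
  have hCQ : ∀ x, x ∈ Subgroup.centralizer (Q : Set G) ↔ ∀ q ∈ Q, q * x = x * q :=
    fun x => Subgroup.mem_centralizer_iff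
  let V : Subgroup G :=
    { carrier := {x | x ∈ Q ∧ x ∈ Subgroup.centralizer (Q : Set G) ∧ x * x = 1}
      one_mem' := ⟨one_mem _, one_mem _, one_mul 1⟩
      mul_mem' := by
        rintro a b ⟨haQ, haC, ha⟩ ⟨hbQ, hbC, hb⟩
        have h := (hCQ b).mp hbC a haQ
        refine ⟨mul_mem haQ hbQ, mul_mem haC hbC, ?_⟩
        calc a * b * (a * b) = a * (b * a) * b := by group
          _ = a * (a * b) * b := by rw [← h]
          _ = (a * a) * (b * b) := by group
          _ = 1 := by rw [ha, hb, one_mul]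
      inv_mem' := by
        rintro a ⟨haQ, haC, ha⟩
        exact ⟨inv_mem haQ, inv_mem haC, by rw [← mul_inv_rev, ha, inv_one]⟩ }
  have hVQ : V ≤ Q := fun x hx => hx.1
  have hVS : V ≤ (S : Subgroup G) := hVQ.trans hQS
  have hVconj : ∀ g : G, ∀ v ∈ V, g * v * g⁻¹ ∈ V := by
    rintro g v ⟨hvQ, hvC, hv⟩
    have hCn : (Subgroup.centralizer (Q : Set G)).Normal := Subgroup.normal_centralizer
    refine ⟨hQn.conj_mem v hvQ g, hCn.conj_mem v hvC g, ?_⟩
    calc g * v * g⁻¹ * (g * v * g⁻¹) = g * (v * v) * g⁻¹ := by group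
      _ = 1 := by rw [hv]; group
  haveI : V.Normal := ⟨fun v hv g => hVconj g v hv⟩
  have hVab : ∀ x ∈ V, ∀ y ∈ V, x * y = y * x ∧ x * x = 1 :=
    fun x hx y hy => ⟨((hCQ y).mp hy.2.1 x hx.1), hx.2.2⟩
  -- elements commuting with `Q` modulo `V`
  let M : Subgroup G :=
    { carrier := {g | ∀ q ∈ Q, ⁅g, q⁆ ∈ V}
      one_mem' := fun q _ => by rw [commutatorElement_one_left]; exact one_mem V
      mul_mem' := fun {g h} hg hh q hq => by
        have e : ⁅g * h, q⁆ = g * ⁅h, q⁆ * g⁻¹ * ⁅g, q⁆ := by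
          simp only [commutatorElement_def]; group
        rw [e]; exact mul_mem (hVconj g _ (hh q hq)) (hg q hq)
      inv_mem' := fun {g} hg q hq => by
        have e : ⁅g⁻¹, q⁆ = g⁻¹ * ⁅g, q⁆⁻¹ * g⁻¹⁻¹ := by
          simp only [commutatorElement_def]; group
        rw [e]; exact hVconj _ _ (inv_mem (hg q hq)) }
  haveI hMn : M.Normal := by
    constructor
    intro g hg x q hq
    have hq' : x⁻¹ * q * x ∈ Q := by simpa using hQn.conj_mem q hq x⁻¹
    have e : ⁅x * g * x⁻¹, q⁆ = x * ⁅g, x⁻¹ * q * x⁆ * x⁻¹ := by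
      simp only [commutatorElement_def]; group
    rw [e]; exact hVconj x _ (hg _ hq')
  have hAM : A ≤ M := by
    intro a ha q hq
    have haS := hAS ha
    have hqS := hQS hq
    refine ⟨?_, ?_, ?_⟩
    · have := mul_mem (hQn.conj_mem q hq a) (inv_mem hq)
      simpa [commutatorElement_def] using this
    · exact (hCQ _).mpr fun r hr => hcomm3 haS hqS (hQS hr)
    · have h1 := hcomm3 haS hqS haS
      calc ⁅a, q⁆ * ⁅a, q⁆ = (a * ⁅a, q⁆) * a⁻¹ * ⁅a, q⁆ := by rw [h1, mul_inv_cancel_right]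
        _ = (a * a) * q * (a * a)⁻¹ * q⁻¹ := by simp only [commutatorElement_def]; group
        _ = 1 := by rw [hAexp a ha]; group
  -- elements of `M` centralizing `V` lie in `Q`
  set C := Subgroup.centralizer (V : Set G) with hC
  have hMC : M ⊓ C ≤ Q := by
    haveI : C.Normal := Subgroup.normal_centralizer
    haveI : (M ⊓ C).Normal := Subgroup.normal_inf_normal M C
    refine PSolvable.le_pCore inferInstance ?_
    have key : ∀ g ∈ M ⊓ C, g * g ∈ Q := by
      intro g hg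
      obtain ⟨hgM, hgC⟩ := Subgroup.mem_inf.mp hg
      refine hc ((hCQ _).mpr fun q hq => ?_)
      have hcv := hgM q hq
      have h1 : g * ⁅g, q⁆ = ⁅g, q⁆ * g := (Subgroup.mem_centralizer_iff.mp hgC _ hcv).symm
      have h2 : (g * g) * q * (g * g)⁻¹ = q := by
        calc (g * g) * q * (g * g)⁻¹ = (g * ⁅g, q⁆) * g⁻¹ * ⁅g, q⁆ * q := by
              simp only [commutatorElement_def]; group
          _ = (⁅g, q⁆ * ⁅g, q⁆) * q := by rw [h1, mul_inv_cancel_right]
          _ = q := by rw [hcv.2.2, one_mul]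
      exact (mul_inv_eq_iff_eq_mul.mp h2).symm
    rintro ⟨g, hg⟩
    obtain ⟨k, hk⟩ := hQp ⟨g * g, key g hg⟩
    refine ⟨k + 1, Subtype.ext ?_⟩
    have hk' : (g * g) ^ 2 ^ k = 1 := congrArg Subtype.val hk
    show g ^ 2 ^ (k + 1) = 1
    rw [pow_succ', pow_mul, pow_two]
    exact hk'
  by_contra hAQ
  -- the action on `V`
  letI : CommGroup V := { (inferInstance : Group V) with
    mul_comm := fun x y => Subtype.ext (hVab x x.2 y y.2).1 }
  let φ0 : G →* MulAut V := MulAut.conjNormal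
  let φM : M →* MulAut V := φ0.comp M.subtype
  let φ : φM.range →* MulAut V := φM.range.subtype
  have hmapx : ∀ (g : M) (v : V), (φ ⟨φM g, g, rfl⟩ v : G) = (g : G) * v * (g : G)⁻¹ :=
    fun g v => rfl
  have hkerM : ∀ g : M, φM g = 1 → (g : G) ∈ C := by
    intro g hg
    rw [hC, Subgroup.mem_centralizer_iff]
    intro v hv
    have h : (g : G) * v * (g : G)⁻¹ = v :=
      congrArg (fun f : MulAut V => ((f ⟨v, hv⟩ : V) : G)) hg
    exact (mul_inv_eq_iff_eq_mul.mp h).symm
  have hkerQ : ∀ g : M, φM g = 1 → (g : G) ∈ Q := fun g hg =>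
    hMC (Subgroup.mem_inf.mpr ⟨g.2, hkerM g hg⟩)
  have hker2 : IsPGroup 2 φM.rangeRestrict.ker := by
    rw [φM.ker_rangeRestrict]
    rintro ⟨g, hg⟩
    obtain ⟨k, hk⟩ := hQp ⟨g, hkerQ g hg⟩
    have hk' : (g : G) ^ 2 ^ k = 1 := congrArg Subtype.val hk
    exact ⟨k, Subtype.ext (Subtype.ext (by simpa using hk'))⟩
  have hlift : ∀ P : Subgroup φM.range, IsPGroup 2 P →
      IsPGroup 2 (P.comap φM.rangeRestrict) := fun P hP =>
    hP.comap_of_ker_isPGroup _ hker2
  -- the offender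
  set B0 := (A.subgroupOf M).map φM.rangeRestrict with hB0
  have hB0p : IsPGroup 2 B0 := ((S.isPGroup'.to_le hAS).comap_subtype (K := M)).map _
  have hB0ne : B0 ≠ ⊥ := by
    intro h
    apply hAQ
    intro a ha
    refine hkerQ ⟨a, hAM ha⟩ ?_
    have h1 : φM.rangeRestrict ⟨a, hAM ha⟩ ∈ B0 :=
      Subgroup.mem_map_of_mem _ (Subgroup.mem_subgroupOf.mpr ha)
    rw [h, Subgroup.mem_bot] at h1
    exact congrArg Subtype.val h1
  have hP : ∀ P : Subgroup φM.range, IsPGroup 2 P → ∀ a ∈ P, ∀ b ∈ P,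
      a * b = b * a ∧ a * a = 1 ∧ ∀ v, φ a (v⁻¹ * φ b v) = v⁻¹ * φ b v := by
    intro P hP a ha b hb
    obtain ⟨g, rfl⟩ := φM.rangeRestrict_surjective a
    obtain ⟨h, rfl⟩ := φM.rangeRestrict_surjective b
    obtain ⟨T, hT⟩ := ((hlift P hP).map M.subtype).exists_le_sylow
    obtain ⟨k, hk⟩ := MulAction.exists_smul_eq G T S
    have hin : ∀ x : M, φM.rangeRestrict x ∈ P → k * (x : G) * k⁻¹ ∈ (S : Subgroup G) := by
      intro x hx
      rw [← hk]
      exact Subgroup.smul_mem_pointwise_smul _ (MulAut.conj k) _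
        (hT (Subgroup.mem_map_of_mem _ hx))
    set g' := k * (g : G) * k⁻¹ with hg'
    set h' := k * (h : G) * k⁻¹ with hh'
    have hgS : g' ∈ (S : Subgroup G) := hin g ha
    have hhS : h' ∈ (S : Subgroup G) := hin h hb
    have hq : ∀ x y : G, x ∈ (S : Subgroup G) → y ∈ (S : Subgroup G) → ∀ v ∈ V,
        x * (v⁻¹ * (y * v * y⁻¹)) * x⁻¹ = v⁻¹ * (y * v * y⁻¹) := by
      intro x y hx hy v hv
      have e : v⁻¹ * (y * v * y⁻¹) = ⁅v⁻¹, y⁆ := by simp only [commutatorElement_def]; group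
      rw [e, hcomm3 (inv_mem (hVS hv)) hy hx, mul_inv_cancel_right]
    have hsq : ∀ x : G, x ∈ (S : Subgroup G) → ∀ v ∈ V, x * (x * v * x⁻¹) * x⁻¹ = v := by
      intro x hx v hv
      have h1 := hq x x hx hx v hv
      have hd : v⁻¹ * (x * v * x⁻¹) ∈ V := mul_mem (inv_mem hv) (hVconj x v hv)
      have hd2 := (hVab _ hd _ hd).2
      calc x * (x * v * x⁻¹) * x⁻¹
          = (x * v * x⁻¹) * (x * (v⁻¹ * (x * v * x⁻¹)) * x⁻¹) := by group
        _ = v * ((v⁻¹ * (x * v * x⁻¹)) * (v⁻¹ * (x * v * x⁻¹))) := by rw [h1]; group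
        _ = v := by rw [hd2, mul_one]
    have hcm : ∀ v ∈ V, g' * (h' * v * h'⁻¹) * g'⁻¹ = h' * (g' * v * g'⁻¹) * h'⁻¹ := by
      intro v hv
      have h1 := hq g' h' hgS hhS v hv
      have h2 := hq h' g' hhS hgS v hv
      have d1 : v⁻¹ * (h' * v * h'⁻¹) ∈ V := mul_mem (inv_mem hv) (hVconj _ v hv)
      have d2 : v⁻¹ * (g' * v * g'⁻¹) ∈ V := mul_mem (inv_mem hv) (hVconj _ v hv)
      calc g' * (h' * v * h'⁻¹) * g'⁻¹
          = (g' * v * g'⁻¹) * (g' * (v⁻¹ * (h' * v * h'⁻¹)) * g'⁻¹) := by group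
        _ = v * ((v⁻¹ * (g' * v * g'⁻¹)) * (v⁻¹ * (h' * v * h'⁻¹))) := by rw [h1]; group
        _ = v * ((v⁻¹ * (h' * v * h'⁻¹)) * (v⁻¹ * (g' * v * g'⁻¹))) := by
            rw [(hVab _ d2 _ d1).1]
        _ = (h' * v * h'⁻¹) * (v⁻¹ * (g' * v * g'⁻¹)) := by group
        _ = h' * (g' * v * g'⁻¹) * h'⁻¹ := by
            conv_lhs => rw [← h2]
            group
    -- transport to `g` and `h`
    have hback : ∀ (x y : G), (∀ v ∈ V, x * v * x⁻¹ = y * v * y⁻¹) →
        ∀ v ∈ V, k⁻¹ * x * k * v * (k⁻¹ * x * k)⁻¹ = k⁻¹ * y * k * v * (k⁻¹ * y * k)⁻¹ := by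
      intro x y hxy v hv
      have := congrArg (fun z => k⁻¹ * z * k) (hxy _ (hVconj k v hv))
      calc _ = k⁻¹ * (x * (k * v * k⁻¹) * x⁻¹) * k := by group
        _ = k⁻¹ * (y * (k * v * k⁻¹) * y⁻¹) * k := this
        _ = _ := by group
    refine ⟨?_, ?_, fun v => ?_⟩
    · refine Subtype.ext (MulEquiv.ext fun v => Subtype.ext ?_)
      show (g : G) * ((h : G) * v * (h : G)⁻¹) * (g : G)⁻¹
        = (h : G) * ((g : G) * v * (g : G)⁻¹) * (h : G)⁻¹
      have h1 := hback (g' * h') (h' * g') (fun v hv => by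
        have := hcm v hv
        calc g' * h' * v * (g' * h')⁻¹ = g' * (h' * v * h'⁻¹) * g'⁻¹ := by group
          _ = h' * (g' * v * g'⁻¹) * h'⁻¹ := this
          _ = h' * g' * v * (h' * g')⁻¹ := by group) v v.2
      simp only [hg', hh'] at h1
      calc _ = k⁻¹ * (k * (g : G) * k⁻¹ * (k * (h : G) * k⁻¹)) * k * v *
            (k⁻¹ * (k * (g : G) * k⁻¹ * (k * (h : G) * k⁻¹)) * k)⁻¹ := by group
        _ = _ := h1
        _ = _ := by group
    · refine Subtype.ext (MulEquiv.ext fun v => Subtype.ext ?_)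
      show (g : G) * ((g : G) * v * (g : G)⁻¹) * (g : G)⁻¹ = v
      have h1 := hback (g' * g') 1 (fun v hv => by
        calc g' * g' * v * (g' * g')⁻¹ = g' * (g' * v * g'⁻¹) * g'⁻¹ := by group
          _ = v := hsq g' hgS v hv
          _ = 1 * v * 1⁻¹ := by group) v v.2
      simp only [hg'] at h1
      calc _ = k⁻¹ * (k * (g : G) * k⁻¹ * (k * (g : G) * k⁻¹)) * k * v *
            (k⁻¹ * (k * (g : G) * k⁻¹ * (k * (g : G) * k⁻¹)) * k)⁻¹ := by group
        _ = _ := h1
        _ = _ := by group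
    · refine Subtype.ext ?_
      show (g : G) * ((v : G)⁻¹ * ((h : G) * v * (h : G)⁻¹)) * (g : G)⁻¹
        = (v : G)⁻¹ * ((h : G) * v * (h : G)⁻¹)
      have h1 := congrArg (fun z => k⁻¹ * z * k) (hq g' h' hgS hhS _ (hVconj k v v.2))
      simp only [hg', hh'] at h1
      calc _ = k⁻¹ * (k * (g : G) * k⁻¹ * ((k * (v : G) * k⁻¹)⁻¹ *
            (k * (h : G) * k⁻¹ * (k * (v : G) * k⁻¹) * (k * (h : G) * k⁻¹)⁻¹)) *
            (k * (g : G) * k⁻¹)⁻¹) * k := by group
        _ = _ := h1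
        _ = _ := by group
  have hO : ∀ N : Subgroup φM.range, N.Normal → IsPGroup 2 N → N = ⊥ := by
    intro N hN hNp
    haveI := hN.comap φM.rangeRestrict
    have h1 : N.comap φM.rangeRestrict ≤ Cfsg.pCore 2 M :=
      PSolvable.le_pCore inferInstance (hlift N hNp)
    rw [Subgroup.eq_bot_iff_forall]
    intro x hx
    obtain ⟨g, rfl⟩ := φM.rangeRestrict_surjective x
    have hgQ : (g : G) ∈ Q :=
      PSolvable.pCore_map_le_of_normal M ⟨g, h1 hx, rfl⟩
    refine Subtype.ext (MulEquiv.ext fun v => Subtype.ext ?_)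
    show (g : G) * v * (g : G)⁻¹ = v
    rw [(hCQ _).mp v.2.2.1 _ hgQ, mul_inv_cancel_right]
  have hoff : Nat.card V ≤ Nat.card B0 * Nat.card (fixSub φ B0) := by
    set A0 := A ⊓ C with hA0
    have hA0V : ∀ a ∈ A0, ∀ v ∈ V, a * v = v * a := fun a ha v hv =>
      (Subgroup.mem_centralizer_iff.mp (Subgroup.mem_inf.mp ha).2 v hv).symm
    set E := A0 ⊔ V with hE
    have hEel : Cfsg.IsElementaryAbelian 2 E := by
      have hcl' : E = Subgroup.closure ((A0 : Set G) ∪ (V : Set G)) := by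
        rw [Subgroup.closure_union, Subgroup.closure_eq, Subgroup.closure_eq]
      haveI hab : IsMulCommutative E := by
        rw [hcl']
        refine Subgroup.isMulCommutative_closure ?_
        rintro a (ha | ha) b (hb | hb)
        · exact hAcomm a (Subgroup.mem_inf.mp ha).1 b (Subgroup.mem_inf.mp hb).1
        · exact hA0V a ha b hb
        · exact (hA0V b hb a ha).symm
        · exact (hVab a ha b hb).1
      refine ⟨hab, fun x hx => ?_⟩
      obtain ⟨a, ha, v, hv, rfl⟩ := Subgroup.mem_sup_of_normal_right.mp hx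
      rw [pow_two]
      calc a * v * (a * v) = a * (v * a) * v := by group
        _ = a * (a * v) * v := by rw [← hA0V a ha v hv]
        _ = (a * a) * (v * v) := by group
        _ = 1 := by rw [hAexp a (Subgroup.mem_inf.mp ha).1, (hVab v hv v hv).2, one_mul]
    have h1 := hAmax E (sup_le (inf_le_left.trans hAS) hVS) hEel
    have h2 := card_sup_mul_card_inf_ge A0 V
    -- `|B₀| |A ⊓ C| = |A|`
    have h3 : Nat.card B0 * Nat.card A0 = Nat.card A := by
      let f : A.subgroupOf M →* φM.range := φM.rangeRestrict.comp (A.subgroupOf M).subtype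
      have hr : f.range = B0 := by
        rw [hB0]
        exact (MonoidHom.range_comp _ _).trans
          (congrArg (Subgroup.map φM.rangeRestrict) (Subgroup.range_subtype _))
      have hk : Nat.card f.ker = Nat.card A0 := by
        refine Nat.card_congr
          { toFun := fun x => ⟨(x.1.1 : G), Subgroup.mem_inf.mpr
              ⟨Subgroup.mem_subgroupOf.mp x.1.2, hkerM x.1.1 (congrArg Subtype.val x.2)⟩⟩
            invFun := fun x => ⟨⟨⟨x, hAM (Subgroup.mem_inf.mp x.2).1⟩,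
              Subgroup.mem_subgroupOf.mpr (Subgroup.mem_inf.mp x.2).1⟩,
              Subtype.ext (MulEquiv.ext fun v => Subtype.ext
                (mul_inv_eq_iff_eq_mul.mpr (hA0V x x.2 v v.2)))⟩
            left_inv := fun _ => rfl
            right_inv := fun _ => rfl }
      have hc2 : Nat.card f.ker * f.ker.index = Nat.card (A.subgroupOf M) :=
        Subgroup.card_mul_index f.ker
      rw [hk, Subgroup.index_ker, hr,
        Nat.card_congr (Subgroup.subgroupOfEquivOfLe hAM).toEquiv] at hc2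
      rw [mul_comm]; exact hc2
    have h4 : Nat.card (A0 ⊓ V : Subgroup G) ≤ Nat.card (fixSub φ B0) := by
      refine Nat.card_le_card_of_injective
        (fun x => ⟨⟨x.1, (Subgroup.mem_inf.mp x.2).2⟩, ?_⟩) ?_
      · rintro _ ⟨g, hg, rfl⟩
        refine Subtype.ext ?_
        show (g : G) * x.1 * (g : G)⁻¹ = x.1
        rw [hAcomm _ (Subgroup.mem_subgroupOf.mp hg) _
          (Subgroup.mem_inf.mp (Subgroup.mem_inf.mp x.2).1).1, mul_inv_cancel_right]
      · intro x y h
        exact Subtype.ext (congrArg (fun z : fixSub φ B0 => ((z : V) : G)) h)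
    have h5 : Nat.card A0 * Nat.card V ≤
        Nat.card A0 * (Nat.card B0 * Nat.card (fixSub φ B0)) := by
      calc Nat.card A0 * Nat.card V
          ≤ Nat.card E * Nat.card (A0 ⊓ V : Subgroup G) := h2
        _ ≤ Nat.card A * Nat.card (fixSub φ B0) := Nat.mul_le_mul h1 h4
        _ = _ := by rw [← h3]; ring
    exact Nat.le_of_mul_le_mul_left h5 Nat.card_pos
  obtain ⟨a, b, ha, hb, hab, hab3⟩ :=
    exists_pair φ Subtype.val_injective hP hO B0 hB0p hB0ne hoff
  obtain ⟨s, rfl⟩ := φM.rangeRestrict_surjective a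
  obtain ⟨t, rfl⟩ := φM.rangeRestrict_surjective b
  apply hS4
  have hev : ∀ (g : M), φM.rangeRestrict g = 1 → ∀ v ∈ V, (g : G) * v * (g : G)⁻¹ = v := by
    intro g hg v hv
    exact congrArg (fun f : φM.range => ((f.1 ⟨v, hv⟩ : V) : G)) hg
  refine involves_of_pair V hVab (s : G) (t : G) (hVconj _) (hVconj _) ?_ ?_ ?_ ?_
  · intro v hv
    have := hev (s * s) (by rw [map_mul]; exact ha) v hv
    calc _ = ((s : G) * s) * v * ((s : G) * s)⁻¹ := by group
      _ = v := this
  · intro v hv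
    have := hev (t * t) (by rw [map_mul]; exact hb) v hv
    calc _ = ((t : G) * t) * v * ((t : G) * t)⁻¹ := by group
      _ = v := this
  · intro v hv
    exact hev ((s * t) ^ 3) (by rw [map_pow, map_mul]; exact hab3) v hv
  · by_contra hno
    push Not at hno
    apply hab
    rw [← map_mul]
    exact Subtype.ext (MulEquiv.ext fun v => Subtype.ext (hno v v.2))

/-- `G = N_G(J(S)) O_{2'}(G)`. -/
theorem factorization (hcon : Cfsg.IsPConstrained 2 G)
    (hS4 : ¬ Cfsg.Involves (Equiv.Perm (Fin 4)) G) (S : Sylow 2 G)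
    (hcl : (S : Subgroup G).lowerCentralSeries 2 = ⊥) :
    Subgroup.normalizer ((Cfsg.thompsonSubgroupOf 2 (S : Subgroup G)) : Set G) ⊔
      Cfsg.pPrimeCore 2 G = ⊤ := by
  haveI : Fact (Nat.Prime 2) := ⟨Nat.prime_two⟩
  set O := Cfsg.pPrimeCore 2 G with hO
  set π := QuotientGroup.mk' O with hπ
  set J := Cfsg.thompsonSubgroupOf 2 (S : Subgroup G) with hJ
  set S' := S.mapSurjective (QuotientGroup.mk'_surjective O) with hS'
  have hS'coe : (S' : Subgroup (G ⧸ O)) = (S : Subgroup G).map π := Sylow.coe_mapSurjective _ _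
  have hSO : ∀ x ∈ (S : Subgroup G), x ∈ O → x = 1 := by
    intro x hxS hxO
    obtain ⟨k, hk⟩ := S.isPGroup' ⟨x, hxS⟩
    exact orderOf_eq_one_iff.mp (Nat.eq_one_of_dvd_coprimes
      (PSolvable.card_pPrimeCore_coprime.pow_right k) (O.orderOf_dvd_natCard hxO)
      (orderOf_dvd_of_pow_eq_one (congrArg Subtype.val hk)))
  -- transport of the Thompson subgroup
  have hJmap : J.map π = Cfsg.thompsonSubgroupOf 2 (S' : Subgroup (G ⧸ O)) := by
    have hinj : Function.Injective (π.comp (S : Subgroup G).subtype) := by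
      intro x y h
      refine Subtype.ext (inv_mul_eq_one.mp (hSO _ (mul_mem (inv_mem x.2) y.2) ?_))
      exact QuotientGroup.eq.mp h
    have h1 := PGroups.map_thompsonSubgroupOf (p := 2) (π.comp (S : Subgroup G).subtype) hinj ⊤
    have h2 := PGroups.map_thompsonSubgroupOf (p := 2) (S : Subgroup G).subtype
      (Subgroup.subtype_injective _) ⊤
    rw [← MonoidHom.range_eq_map, Subgroup.range_subtype] at h2
    rw [← Subgroup.map_map, ← Subgroup.map_map, h2, ← MonoidHom.range_eq_map,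
      Subgroup.range_subtype] at h1
    rw [hS'coe]
    exact h1
  have hcl' : (S' : Subgroup (G ⧸ O)).lowerCentralSeries 2 = ⊥ := by
    rw [hS'coe, ← Subgroup.map_lowerCentralSeries, hcl, Subgroup.map_bot]
  have hJQ : Cfsg.thompsonSubgroupOf 2 (S' : Subgroup (G ⧸ O)) ≤ Cfsg.pCore 2 (G ⧸ O) := by
    rw [PGroups.thompsonSubgroupOf_eq]
    exact sSup_le fun A hA => le_pCore (PSolvable.isPConstrained_iff.mp hcon)
      (fun h => hS4 (involves_of_quotient O h)) S' hcl' A hA
  have hJn : (J.map π).Normal := by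
    rw [hJmap, ← PGroups.thompsonSubgroupOf_eq_of_le (Cores.pCore_le_sylow S') hJQ]
    rw [← Subgroup.normalizer_eq_top_iff, ← top_le_iff]
    refine le_trans ?_ (PGroups.normalizer_le_normalizer_thompson _)
    rw [Subgroup.normalizer_eq_top_iff.mpr (inferInstance : (Cfsg.pCore 2 (G ⧸ O)).Normal)]
  set N := (J.map π).comap π with hN
  haveI : N.Normal := hJn.comap π
  have hJS : J ≤ (S : Subgroup G) := PGroups.thompsonSubgroupOf_le 2 _
  have hSN : (S : Subgroup G) ⊓ N = J := by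
    refine le_antisymm ?_ (le_inf hJS (Subgroup.le_comap_map π J))
    intro x hx
    obtain ⟨hxS, hxN⟩ := Subgroup.mem_inf.mp hx
    obtain ⟨j, hj, he⟩ := Subgroup.mem_map.mp hxN
    rwa [← inv_mul_eq_one.mp (hSO (j⁻¹ * x) (mul_mem (inv_mem (hJS hj)) hxS)
      (QuotientGroup.eq.mp he))]
  have h := PLocal.normalizer_inf_sup_eq_top S N
  rw [hSN] at h
  rw [← top_le_iff, ← h]
  refine sup_le le_sup_left ?_
  rw [hN, Subgroup.comap_map_eq, QuotientGroup.ker_mk']
  exact sup_le (le_sup_of_le_left Subgroup.le_normalizer) le_sup_right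

end Cfsg.Agent.Lib.Tech42.ClassTwoFactor
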