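import Mathlib

/-!
A group with elementary abelian, quadratically acting Sylow `2`-subgroups, no normal `2`-subgroup
and an offender on a faithful module over `F₂` contains an element of order `3` inverted by an
involution.
-/

namespace Cfsg.Agent.Lib.Tech42.ClassTwoFactor

set_option autoImplicit false
set_option linter.style.haveILetI false

variable {L V : Type*} [Group L] [CommGroup V]

/-- The fixed points of `B`. -/
def fixSub (φ : L →* MulAut V) (B : Subgroup L) : Subgroup V where
  carrier := {v | ∀ b ∈ B, φ b v = v}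
  one_mem' := fun b _ => map_one (φ b)
  mul_mem' := fun hu hv b hb => by rw [map_mul, hu b hb, hv b hb]
  inv_mem' := fun hu b hb => by rw [map_inv, hu b hb]

theorem fixSub_anti (φ : L →* MulAut V) {B C : Subgroup L} (h : B ≤ C) :
    fixSub φ C ≤ fixSub φ B := fun _ hv b hb => hv b (h hb)

theorem fixSub_sup (φ : L →* MulAut V) (B C : Subgroup L) :
    fixSub φ (B ⊔ C) = fixSub φ B ⊓ fixSub φ C := by
  refine le_antisymm (le_inf (fixSub_anti φ le_sup_left) (fixSub_anti φ le_sup_right)) ?_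
  intro v hv x hx
  let S : Subgroup L :=
    { carrier := {g | φ g v = v}
      one_mem' := by simp
      mul_mem' := fun {a b} ha hb => by
        show φ (a * b) v = v
        rw [map_mul, MulAut.mul_apply, show φ b v = v from hb, show φ a v = v from ha]
      inv_mem' := fun {a} ha => by
        show φ a⁻¹ v = v
        conv_lhs => rw [← show φ a v = v from ha]
        rw [← MulAut.mul_apply, ← map_mul, inv_mul_cancel, map_one, MulAut.one_apply] }
  exact (sup_le (fun b hb => (Subgroup.mem_inf.mp hv).1 b hb)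
    (fun b hb => (Subgroup.mem_inf.mp hv).2 b hb) : B ⊔ C ≤ S) hx

/-- Conjugate subgroup. -/
def cj (g : L) (B : Subgroup L) : Subgroup L := B.map (MulAut.conj g).toMonoidHom

theorem mem_cj {g x : L} {B : Subgroup L} : x ∈ cj g B ↔ g⁻¹ * x * g ∈ B := by
  rw [cj, Subgroup.mem_map_equiv, MulAut.conj_symm_apply]

theorem cj_cj (g h : L) (B : Subgroup L) : cj g (cj h B) = cj (g * h) B := by
  ext x; simp only [mem_cj]; rw [mul_inv_rev]; simp [mul_assoc]

theorem card_fixSub_cj (φ : L →* MulAut V) (g : L) (B : Subgroup L) :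
    Nat.card (fixSub φ (cj g B)) = Nat.card (fixSub φ B) := by
  have h : (fixSub φ B).map (φ g).toMonoidHom = fixSub φ (cj g B) := by
    ext v
    rw [Subgroup.mem_map_equiv]
    have hs : (φ g).symm v = φ g⁻¹ v := by rw [map_inv, MulAut.inv_apply]
    rw [hs]
    constructor
    · intro h b hb
      have h1 := h _ (mem_cj.mp hb)
      have h2 := congrArg (φ g) h1
      simp only [← MulAut.mul_apply, ← map_mul] at h2
      simpa [mul_assoc] using h2
    · intro h b hb
      have h1 := h (g * b * g⁻¹) (mem_cj.mpr (by simpa [mul_assoc] using hb))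
      have h2 := congrArg (φ g⁻¹) h1
      simp only [← MulAut.mul_apply, ← map_mul] at h2 ⊢
      simpa [mul_assoc] using h2
  rw [← h, Subgroup.card_map_of_injective (φ g).injective]

theorem card_sup_mul_card_inf_ge {G : Type*} [Group G] [Finite G] (B C : Subgroup G) :
    Nat.card B * Nat.card C ≤ Nat.card (B ⊔ C : Subgroup G) * Nat.card (B ⊓ C : Subgroup G) := by
  have h1 : (B ⊓ C).relIndex C ≤ B.relIndex (B ⊔ C) := by
    rw [Subgroup.inf_relIndex_right]
    exact Subgroup.relIndex_le_of_le_right le_sup_right Subgroup.index_ne_zero_of_finite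
  have hc : ∀ (H K : Subgroup G), H ≤ K → Nat.card H * H.relIndex K = Nat.card K := by
    intro H K h
    rw [Subgroup.relIndex, ← Nat.card_congr (Subgroup.subgroupOfEquivOfLe h).toEquiv,
      Subgroup.card_mul_index]
  calc Nat.card B * Nat.card C = Nat.card B * (Nat.card (B ⊓ C : Subgroup G) * (B ⊓ C).relIndex C) := by
        rw [hc _ _ inf_le_right]
    _ ≤ Nat.card B * (Nat.card (B ⊓ C : Subgroup G) * B.relIndex (B ⊔ C)) :=
        Nat.mul_le_mul_left _ (Nat.mul_le_mul_left _ h1)
    _ = (Nat.card B * B.relIndex (B ⊔ C)) * Nat.card (B ⊓ C : Subgroup G) := by ring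
    _ = _ := by rw [hc _ _ le_sup_left]

variable [Finite L] [Finite V]

theorem exists_pair (φ : L →* MulAut V) (hinj : Function.Injective φ)
    (hP : ∀ P : Subgroup L, IsPGroup 2 P → ∀ a ∈ P, ∀ b ∈ P,
      a * b = b * a ∧ a * a = 1 ∧ ∀ v, φ a (v⁻¹ * φ b v) = v⁻¹ * φ b v)
    (hO : ∀ N : Subgroup L, N.Normal → IsPGroup 2 N → N = ⊥)
    
    (B0 : Subgroup L) (hB0 : IsPGroup 2 B0) (hne : B0 ≠ ⊥)
    (hoff : Nat.card V ≤ Nat.card B0 * Nat.card (fixSub φ B0)) :
    ∃ s t : L, s * s = 1 ∧ t * t = 1 ∧ s * t ≠ 1 ∧ (s * t) ^ 3 = 1 := by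
  classical
  set M := Nat.card L + 1
  set f : Subgroup L → ℕ := fun C => Nat.card C * Nat.card (fixSub φ C) with hf
  set key : Subgroup L → ℕ := fun C => f C * M + Nat.card C with hkey
  haveI : Nonempty {C : Subgroup L // IsPGroup 2 C} := ⟨⟨B0, hB0⟩⟩
  obtain ⟨⟨B₁, hB₁⟩, hmax⟩ :=
    Finite.exists_max fun C : {C : Subgroup L // IsPGroup 2 C} => key C.1
  have hlt : ∀ C : Subgroup L, Nat.card C < M := fun C =>
    Nat.lt_succ_of_le (Subgroup.card_le_card_group C)
  let IsMax : Subgroup L → Prop := fun C => IsPGroup 2 C ∧ key C = key B₁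
  have hfmax : ∀ B, IsMax B → ∀ C : Subgroup L, IsPGroup 2 C → f C ≤ f B := by
    intro B hB C hC
    have h1 : key C ≤ key B := by rw [hB.2]; exact hmax ⟨C, hC⟩
    by_contra h
    have h2 : (f B + 1) * M ≤ f C * M := Nat.mul_le_mul_right M (by omega)
    have := hlt B
    simp only [hkey] at h1
    rw [Nat.add_mul, one_mul] at h2
    omega
  have hcardmax : ∀ B, IsMax B → ∀ C : Subgroup L, IsPGroup 2 C → f B ≤ f C → Nat.card C ≤ Nat.card B := by
    intro B hB C hC h
    have h1 : key C ≤ key B := by rw [hB.2]; exact hmax ⟨C, hC⟩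
    have h2 : f C = f B := le_antisymm (hfmax B hB C hC) h
    simp only [hkey, h2] at h1
    omega
  have hne' : ∀ B, IsMax B → B ≠ ⊥ := by
    intro B hB h
    have h1 : f B ≤ f B0 := by
      refine le_trans ?_ hoff
      rw [h]
      simp only [hf, Subgroup.card_bot, one_mul]
      exact Subgroup.card_le_card_group _
    have h2 := hcardmax B hB B0 hB0 h1
    rw [h, Subgroup.card_bot] at h2
    exact hne (Subgroup.card_eq_one.mp (le_antisymm h2 Nat.card_pos))
  have huniq : ∀ B C P : Subgroup L, IsMax B → IsMax C → IsPGroup 2 P → B ≤ P → C ≤ P → B = C := by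
    intro B C P hB hC hP' hBP hCP
    have hsup : IsPGroup 2 (B ⊔ C : Subgroup L) := hP'.to_le (sup_le hBP hCP)
    have hinf : IsPGroup 2 (B ⊓ C : Subgroup L) := hB.1.to_le inf_le_left
    have h1 := card_sup_mul_card_inf_ge B C
    have h2 := card_sup_mul_card_inf_ge (fixSub φ B) (fixSub φ C)
    have h3 : Nat.card (fixSub φ B ⊔ fixSub φ C : Subgroup V) ≤ Nat.card (fixSub φ (B ⊓ C)) :=
      Subgroup.card_le_of_le (sup_le (fixSub_anti φ inf_le_left) (fixSub_anti φ inf_le_right))
    rw [← fixSub_sup] at h2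
    have hfBC : f B = f C := le_antisymm (hfmax C hC B hB.1) (hfmax B hB C hC.1)
    have h4 : f B * f B ≤ f (B ⊔ C) * f (B ⊓ C) := by
      calc f B * f B = f B * f C := by rw [hfBC]
        _ = (Nat.card B * Nat.card C) * (Nat.card (fixSub φ B) * Nat.card (fixSub φ C)) := by
            simp only [hf]; ring
        _ ≤ (Nat.card (B ⊔ C : Subgroup L) * Nat.card (B ⊓ C : Subgroup L)) *
            (Nat.card (fixSub φ B ⊔ fixSub φ C : Subgroup V) * Nat.card (fixSub φ (B ⊔ C))) :=
            Nat.mul_le_mul h1 h2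
        _ ≤ (Nat.card (B ⊔ C : Subgroup L) * Nat.card (B ⊓ C : Subgroup L)) *
            (Nat.card (fixSub φ (B ⊓ C)) * Nat.card (fixSub φ (B ⊔ C))) :=
            Nat.mul_le_mul_left _ (Nat.mul_le_mul_right _ h3)
        _ = f (B ⊔ C) * f (B ⊓ C) := by simp only [hf]; ring
    have h5 : f B ≤ f (B ⊔ C) := by
      by_contra h
      push_neg at h
      have hb := hfmax B hB _ hinf
      have hpos : 0 < f B := Nat.mul_pos Nat.card_pos Nat.card_pos
      have : f (B ⊔ C) * f (B ⊓ C) < f B * f B :=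
        calc f (B ⊔ C) * f (B ⊓ C) ≤ f (B ⊔ C) * f B := Nat.mul_le_mul_left _ hb
          _ < f B * f B := Nat.mul_lt_mul_of_pos_right h hpos
      omega
    have eB : B = B ⊔ C := Subgroup.eq_of_le_of_card_ge le_sup_left (hcardmax B hB _ hsup h5)
    have eC : C = B ⊔ C :=
      Subgroup.eq_of_le_of_card_ge le_sup_right (hcardmax C hC _ hsup (hfBC ▸ h5))
    exact eB.trans eC.symm
  have hcj : ∀ B g, IsMax B → IsMax (cj g B) := by
    intro B g hB
    refine ⟨hB.1.map _, ?_⟩
    rw [← hB.2]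
    simp only [hkey, hf, card_fixSub_cj]
    rw [show Nat.card (cj g B) = Nat.card B from
      Subgroup.card_map_of_injective (MulAut.conj g).injective]
  -- a pair generating a minimal non-`2`-group
  haveI : Nonempty {q : Subgroup L × Subgroup L //
      IsMax q.1 ∧ IsMax q.2 ∧ ¬ IsPGroup 2 (q.1 ⊔ q.2 : Subgroup L)} := by
    by_contra hno
    simp only [nonempty_subtype, not_exists] at hno
    have hB₁' : IsMax B₁ := ⟨hB₁, rfl⟩
    have hfix : ∀ g, cj g B₁ = B₁ := by
      intro g
      by_contra hne2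
      exact hno (B₁, cj g B₁) ⟨hB₁', hcj _ g hB₁', fun hp =>
        hne2 (huniq _ _ _ (hcj _ g hB₁') hB₁' hp le_sup_right le_sup_left)⟩
    exact hne' B₁ hB₁' (hO B₁ ⟨fun x hx g => by
      have : g * x * g⁻¹ ∈ cj g B₁ := mem_cj.mpr (by simpa [mul_assoc] using hx)
      rwa [hfix g] at this⟩ hB₁)
  obtain ⟨⟨⟨B, B'⟩, hB, hB', hK2⟩, hmin⟩ := Finite.exists_min fun q : {q : Subgroup L × Subgroup L //
      IsMax q.1 ∧ IsMax q.2 ∧ ¬ IsPGroup 2 (q.1 ⊔ q.2 : Subgroup L)} =>
    Nat.card (q.1.1 ⊔ q.1.2 : Subgroup L)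
  set K := B ⊔ B' with hK
  have hne2 : B ≠ B' := fun h => hK2 (by rw [hK, ← h, sup_idem]; exact hB.1)
  have hgen : ∀ C D, IsMax C → IsMax D → C ≤ K → D ≤ K → C ≠ D → C ⊔ D = K := by
    intro C D hC hD hCK hDK hCD
    exact Subgroup.eq_of_le_of_card_ge (sup_le hCK hDK)
      (hmin ⟨(C, D), hC, hD, fun hp => hCD (huniq _ _ _ hC hD hp le_sup_left le_sup_right)⟩)
  have hcommB : ∀ {C : Subgroup L}, IsPGroup 2 C → ∀ x ∈ C, ∀ y ∈ C, x * y = y * x :=
    fun hC x hx y hy => (hP _ hC x hx y hy).1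
  obtain ⟨g, hgK, hgB⟩ : ∃ g ∈ K, cj g B = B' := by
    obtain ⟨T, hT⟩ := (hB'.1.comap_subtype (K := K)).exists_le_sylow
    obtain ⟨T', hT'⟩ := (hB.1.comap_subtype (K := K)).exists_le_sylow
    obtain ⟨k, hk⟩ := MulAction.exists_smul_eq K T' T
    refine ⟨k, k.2, huniq _ _ ((T : Subgroup K).map K.subtype) (hcj _ _ hB) hB' (T.isPGroup'.map _)
      ?_ (fun x hx => ⟨⟨x, (le_sup_right : B' ≤ K) hx⟩, hT hx, rfl⟩)⟩
    rintro _ ⟨x, hx, rfl⟩
    refine ⟨k * ⟨x, (le_sup_left : B ≤ K) hx⟩ * k⁻¹, ?_, rfl⟩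
    rw [← hk]
    exact Subgroup.smul_mem_pointwise_smul _ (MulAut.conj k) _ (hT' hx)
  set Z := B ⊓ B' with hZ
  have hZc : ∀ z ∈ Z, ∀ x ∈ K, x * z = z * x := by
    intro z hz x hx
    have hle : K ≤ Subgroup.centralizer ({z} : Set L) :=
      sup_le (fun y hy => Subgroup.mem_centralizer_singleton_iff.mpr
        (hcommB hB.1 y hy z (Subgroup.mem_inf.mp hz).1))
      (fun y hy => Subgroup.mem_centralizer_singleton_iff.mpr
        (hcommB hB'.1 y hy z (Subgroup.mem_inf.mp hz).2))
    exact Subgroup.mem_centralizer_singleton_iff.mp (hle hx)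
  have hself : ∀ {C : Subgroup L}, ∀ x ∈ C, cj x C = C := by
    intro C x hx
    ext y
    rw [mem_cj, Subgroup.mul_mem_cancel_right _ hx, Subgroup.mul_mem_cancel_left _ (inv_mem hx)]
  have hnormZ : ∀ x ∈ B, cj x B' = B' → x ∈ Z := by
    intro x hx hfix
    have hsup : IsPGroup 2 (Subgroup.zpowers x ⊔ B' : Subgroup L) := by
      refine (hB.1.to_le (Subgroup.zpowers_le.mpr hx)).to_sup_of_normal_right' hB'.1
        (Subgroup.zpowers_le.mpr ?_)
      rw [Subgroup.mem_normalizer_iff]
      intro y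
      conv_rhs => rw [← hfix, mem_cj]
      simp [mul_assoc]
    have hxc : K ≤ Subgroup.centralizer ({x} : Set L) :=
      sup_le (fun y hy => Subgroup.mem_centralizer_singleton_iff.mpr (hcommB hB.1 y hy x hx))
      (fun y hy => Subgroup.mem_centralizer_singleton_iff.mpr (hcommB hsup y
        (Subgroup.mem_sup_right hy) x (Subgroup.mem_sup_left (Subgroup.mem_zpowers x))))
    refine Subgroup.mem_inf.mpr ⟨hx, ?_⟩
    rw [← hgB, mem_cj, mul_assoc, ← Subgroup.mem_centralizer_singleton_iff.mp (hxc hgK),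
      inv_mul_cancel_left]
    exact hx
  have hnormZ' : ∀ x ∈ B', cj x B = B → x ∈ Z := by
    intro x hx hfix
    have hsup : IsPGroup 2 (Subgroup.zpowers x ⊔ B : Subgroup L) := by
      refine (hB'.1.to_le (Subgroup.zpowers_le.mpr hx)).to_sup_of_normal_right' hB.1
        (Subgroup.zpowers_le.mpr ?_)
      rw [Subgroup.mem_normalizer_iff]
      intro y
      conv_rhs => rw [← hfix, mem_cj]
      simp [mul_assoc]
    have hxc : K ≤ Subgroup.centralizer ({x} : Set L) :=
      sup_le (fun y hy => Subgroup.mem_centralizer_singleton_iff.mpr (hcommB hsup y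
        (Subgroup.mem_sup_right hy) x (Subgroup.mem_sup_left (Subgroup.mem_zpowers x))))
      (fun y hy => Subgroup.mem_centralizer_singleton_iff.mpr (hcommB hB'.1 y hy x hx))
    refine Subgroup.mem_inf.mpr ⟨?_, hx⟩
    have h1 : g⁻¹ * x * g ∈ B := mem_cj.mp (hgB.symm ▸ hx)
    rwa [mul_assoc, ← Subgroup.mem_centralizer_singleton_iff.mp (hxc hgK),
      inv_mul_cancel_left] at h1
  -- the two orbits
  haveI : Fintype B := Fintype.ofFinite _
  haveI : Fintype B' := Fintype.ofFinite _
  set O : Finset (Subgroup L) := (Finset.univ : Finset B).image fun x : B => cj (x : L) B' with hO1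
  set O' : Finset (Subgroup L) := (Finset.univ : Finset B').image fun x : B' => cj (x : L) B with hO2
  have hinv : ∀ {C : Subgroup L}, IsPGroup 2 C → ∀ x ∈ C, x * x = 1 :=
    fun hC x hx => (hP _ hC x hx x hx).2.1
  have hfib : ∀ (C D : Subgroup L), IsPGroup 2 C → ∀ [Fintype C],
      (∀ x ∈ C, cj x D = D → x ∈ Z) →
      Nat.card C ≤ Nat.card Z * ((Finset.univ : Finset C).image fun x : C => cj (x : L) D).card := by
    intro C D hC _ hn
    haveI : Fintype Z := Fintype.ofFinite _
    rw [Nat.card_eq_fintype_card, Nat.card_eq_fintype_card, ← Finset.card_univ]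
    refine Finset.card_le_mul_card_image _ _ ?_
    intro m hm
    obtain ⟨x0, -, rfl⟩ := Finset.mem_image.mp hm
    rw [← Finset.card_univ]
    refine Finset.card_le_card_of_injOn (fun x => if h : (x0 : L)⁻¹ * x ∈ Z then ⟨_, h⟩ else 1)
      (fun x _ => Finset.mem_univ _) ?_
    intro x hx y hy he
    have hmemZ : ∀ w ∈ (Finset.univ : Finset C).filter (fun w : C => cj (w : L) D = cj (x0 : L) D),
        (x0 : L)⁻¹ * w ∈ Z := by
      intro w hw
      refine hn _ (mul_mem (inv_mem x0.2) w.2) ?_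
      rw [← cj_cj, (Finset.mem_filter.mp hw).2, cj_cj, inv_mul_cancel]
      ext; simp [mem_cj]
    simp only [dif_pos (hmemZ x hx), dif_pos (hmemZ y hy)] at he
    exact Subtype.ext (mul_left_cancel (congrArg Subtype.val he))
  set X := fixSub φ B with hX
  set X' := fixSub φ B' with hX'
  set X0 := X ⊓ X' with hX0
  set W := fixSub φ Z with hW
  have hxx : Nat.card X' = Nat.card X := by rw [hX', hX, ← hgB, card_fixSub_cj]
  have hBB : Nat.card B' = Nat.card B := by
    rw [← hgB]; exact Subgroup.card_map_of_injective (MulAut.conj g).injective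
  have hWle : ∀ (C : Subgroup L) (n : ℕ), IsMax C → Nat.card C = Nat.card B →
      Nat.card (fixSub φ C) = Nat.card X → Nat.card C ≤ Nat.card Z * n →
      Nat.card W ≤ n * Nat.card X := by
    intro C n hC hCc hCx hle
    have h1 : f Z ≤ f C := hfmax C hC Z (hB.1.to_le inf_le_left)
    simp only [hf] at h1
    refine Nat.le_of_mul_le_mul_left (h1.trans ?_) (Nat.card_pos (α := Z))
    rw [hCx, ← mul_assoc]
    exact Nat.mul_le_mul_right _ hle
  have hW1 : Nat.card W ≤ O.card * Nat.card X := hWle B O.card hB rfl rfl (hfib B B' hB.1 hnormZ)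
  have hW2 : Nat.card W ≤ O'.card * Nat.card X :=
    hWle B' O'.card hB' hBB hxx (hfib B' B hB'.1 hnormZ')
  -- members of the orbits
  have hmem : ∀ C ∈ O ∪ O', IsMax C ∧ C ≤ K ∧ Z ≤ C ∧ Nat.card (fixSub φ C) = Nat.card X := by
    intro C hC
    have hconjZ : ∀ (x : L) (D : Subgroup L), x ∈ K → Z ≤ D → Z ≤ cj x D := by
      intro x D hx hD z hz
      rw [mem_cj, mul_assoc, ← hZc z hz x hx, inv_mul_cancel_left]
      exact hD hz
    have hconjK : ∀ (x : L) (D : Subgroup L), x ∈ K → D ≤ K → cj x D ≤ K := by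
      rintro x D hx hD _ ⟨d, hd, rfl⟩
      exact mul_mem (mul_mem hx (hD hd)) (inv_mem hx)
    rcases Finset.mem_union.mp hC with h | h
    · obtain ⟨x, -, rfl⟩ := Finset.mem_image.mp h
      have hx : (x : L) ∈ K := Subgroup.mem_sup_left x.2
      exact ⟨hcj _ _ hB', hconjK _ _ hx le_sup_right, hconjZ _ _ hx inf_le_right,
        (card_fixSub_cj φ _ _).trans hxx⟩
    · obtain ⟨x, -, rfl⟩ := Finset.mem_image.mp h
      have hx : (x : L) ∈ K := Subgroup.mem_sup_right x.2
      exact ⟨hcj _ _ hB, hconjK _ _ hx le_sup_left, hconjZ _ _ hx inf_le_left,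
        card_fixSub_cj φ _ _⟩
  have hpair : ∀ C ∈ O ∪ O', ∀ D ∈ O ∪ O', C ≠ D → fixSub φ C ⊓ fixSub φ D = X0 := by
    intro C hC D hD hCD
    obtain ⟨hC1, hC2, -, -⟩ := hmem C hC
    obtain ⟨hD1, hD2, -, -⟩ := hmem D hD
    rw [← fixSub_sup, hgen C D hC1 hD1 hC2 hD2 hCD, hX0, hX, hX', ← fixSub_sup, hK]
  by_cases hd : Disjoint O O'
  · exfalso
    -- `X ≠ X'`
    have hXne : X0 ≠ X := by
      intro h
      have hXX : X = X' := Subgroup.eq_of_le_of_card_ge (inf_eq_left.mp h) hxx.le
      have hc : ∀ x ∈ B, ∀ y ∈ B', x * y = y * x := by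
        intro x hx y hy
        apply hinj
        ext v
        have h1 : v⁻¹ * φ x v ∈ X := fun b hb => (hP B hB.1 b hb x hx).2.2 v
        have h2 : v⁻¹ * φ y v ∈ X' := fun b hb => (hP B' hB'.1 b hb y hy).2.2 v
        rw [map_mul, map_mul, MulAut.mul_apply, MulAut.mul_apply]
        calc φ x (φ y v) = φ x (v * (v⁻¹ * φ y v)) := by rw [mul_inv_cancel_left]
          _ = φ x v * (v⁻¹ * φ y v) := by rw [map_mul, (hXX.symm ▸ h2 : v⁻¹ * φ y v ∈ X) x hx]
          _ = φ y v * (v⁻¹ * φ x v) := by rw [mul_left_comm, mul_comm (φ x v) (φ y v),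
              mul_left_comm (φ y v)]
          _ = φ y (v * (v⁻¹ * φ x v)) := by rw [map_mul, (hXX ▸ h1 : v⁻¹ * φ x v ∈ X') y hy]
          _ = φ y (φ x v) := by rw [mul_inv_cancel_left]
      refine hK2 (hB.1.to_sup_of_normal_right' hB'.1 fun x hx => ?_)
      rw [Subgroup.mem_normalizer_iff]
      intro y
      constructor
      · intro hy
        rw [hc x hx y hy, mul_inv_cancel_right]; exact hy
      · intro hy
        have := hc x hx _ hy
        have h4 : x * y * x⁻¹ = y := mul_left_cancel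
          (calc x * (x * y * x⁻¹) = x * y * x⁻¹ * x := this
            _ = x * y := by group)
        rwa [h4] at hy
    haveI : Fintype V := Fintype.ofFinite _
    let d : Subgroup L → Finset V := fun C =>
      Finset.univ.filter fun v => v ∈ fixSub φ C ∧ v ∉ X0
    have hdc : ∀ (Y : Subgroup V), (Finset.univ.filter fun v => v ∈ Y).card = Nat.card Y := by
      intro Y
      rw [Nat.card_eq_fintype_card, Fintype.card_subtype]
    have hX0le : ∀ C ∈ O ∪ O', X0 ≤ fixSub φ C := by
      intro C hC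
      rw [hX0, hX, hX', ← fixSub_sup]
      exact fixSub_anti φ (hmem C hC).2.1
    have hsize : ∀ C ∈ O ∪ O', (d C).card + Nat.card X0 = Nat.card X := by
      intro C hC
      rw [← hdc X0, ← (hmem C hC).2.2.2, ← hdc, ← Finset.card_union_of_disjoint]
      · congr 1
        ext v
        simp only [d, Finset.mem_union, Finset.mem_filter, Finset.mem_univ, true_and]
        exact ⟨fun h => h.elim And.left (fun h => hX0le C hC h),
          fun h => (em (v ∈ X0)).elim Or.inr fun h' => Or.inl ⟨h, h'⟩⟩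
      · rw [Finset.disjoint_left]
        intro v hv hv0
        exact (Finset.mem_filter.mp hv).2.2 (Finset.mem_filter.mp hv0).2
    have hdisj : ((O ∪ O' : Finset (Subgroup L)) : Set (Subgroup L)).PairwiseDisjoint d := by
      intro C hC D hD hCD
      rw [Function.onFun, Finset.disjoint_left]
      intro v hv hv'
      apply (Finset.mem_filter.mp hv).2.2
      rw [← hpair C hC D hD hCD]
      exact Subgroup.mem_inf.mpr ⟨(Finset.mem_filter.mp hv).2.1, (Finset.mem_filter.mp hv').2.1⟩
    have hsub : (O ∪ O').biUnion d ∪ (Finset.univ.filter fun v => v ∈ X0) ⊆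
        Finset.univ.filter fun v => v ∈ W := by
      intro v hv
      rw [Finset.mem_filter]
      refine ⟨Finset.mem_univ v, ?_⟩
      rcases Finset.mem_union.mp hv with h | h
      · obtain ⟨C, hC, hvC⟩ := Finset.mem_biUnion.mp h
        exact fixSub_anti φ (hmem C hC).2.2.1 (Finset.mem_filter.mp hvC).2.1
      · exact fixSub_anti φ inf_le_left (Subgroup.mem_inf.mp (Finset.mem_filter.mp h).2).1
    have hdisj2 : Disjoint ((O ∪ O').biUnion d) (Finset.univ.filter fun v => v ∈ X0) := by
      rw [Finset.disjoint_left]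
      intro v hv hv0
      obtain ⟨C, -, hvC⟩ := Finset.mem_biUnion.mp hv
      exact (Finset.mem_filter.mp hvC).2.2 (Finset.mem_filter.mp hv0).2
    have hle := Finset.card_le_card hsub
    rw [Finset.card_union_of_disjoint hdisj2, hdc, hdc, Finset.card_biUnion hdisj,
      Finset.sum_const_nat (m := Nat.card X - Nat.card X0)
        (fun C hC => by have := hsize C hC; omega),
      Finset.card_union_of_disjoint hd] at hle
    -- `|X| ≥ 2 |X₀|`
    have hX2 : 2 * Nat.card X0 ≤ Nat.card X := by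
      obtain ⟨m, hm⟩ := Subgroup.card_dvd_of_le (inf_le_left : X0 ≤ X)
      have hm1 : m ≠ 1 := fun h => hXne (Subgroup.eq_of_le_of_card_ge inf_le_left
        (by rw [hm, h, mul_one]))
      have hm0 : m ≠ 0 := fun h => by
        rw [h, mul_zero] at hm
        exact (Nat.card_pos (α := X)).ne' hm
      rw [hm, mul_comm 2]
      exact Nat.mul_le_mul_left _ (by omega)
    have hx0 : 0 < Nat.card X0 := Nat.card_pos
    obtain ⟨e, he⟩ := Nat.exists_eq_add_of_le hX2
    have hsub' : Nat.card X - Nat.card X0 = Nat.card X0 + e := by omega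
    rw [hsub'] at hle
    rw [he] at hW1 hW2
    nlinarith
  · obtain ⟨C, hC, hC'⟩ := Finset.not_disjoint_iff.mp hd
    obtain ⟨⟨b, hb⟩, -, hbe⟩ := Finset.mem_image.mp hC
    obtain ⟨⟨b', hb'⟩, -, hbe'⟩ := Finset.mem_image.mp hC'
    simp only at hbe hbe'
    have hb2 := hinv hB.1 b hb
    have hb'2 := hinv hB'.1 b' hb'
    have hbi : b⁻¹ = b := inv_eq_of_mul_eq_one_left hb2
    have hb'i : b'⁻¹ = b' := inv_eq_of_mul_eq_one_left hb'2
    have hbZ : b ∉ Z := by
      intro hz
      apply hne2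
      rw [hself b (Subgroup.mem_inf.mp hz).2] at hbe
      -- then `B'` is conjugate to `B` by `b'`
      have h1 := congrArg (cj b') (hbe'.trans hbe.symm)
      rwa [cj_cj, hb'2, hself b' hb', show cj (1 : L) B = B by ext; simp [mem_cj]] at h1
    have h1 : b * b' * b ∈ C := by
      rw [← hbe, mem_cj, hbi, ← mul_assoc, ← mul_assoc, hb2, one_mul, mul_assoc, hb2, mul_one]
      exact hb'
    have h2 : b' * b * b' ∈ C := by
      rw [← hbe', mem_cj, hb'i, ← mul_assoc, ← mul_assoc, hb'2, one_mul, mul_assoc, hb'2, mul_one]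
      exact hb
    have hCmax : IsMax C := hbe ▸ hcj _ _ hB'
    have hq : ((b * b') ^ 3) * ((b * b') ^ 3) = 1 := by
      have e : (b * b') ^ 3 = (b * b' * b) * (b' * b * b') := by
        simp only [pow_succ, pow_zero, one_mul, mul_assoc]
      rw [e]; exact hinv hCmax.1 _ (mul_mem h1 h2)
    set c := (b * b') * (b * b') with hc
    have hc3 : c ^ 3 = 1 := by rw [hc, ← pow_two, ← pow_mul, show 2 * 3 = 3 + 3 by rfl, pow_add, hq]
    have hc1 : c ≠ 1 := by
      intro h
      have hcm : b * b' = b' * b := by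
        calc b * b' = (b * b') * ((b * b') * (b' * b)) := by
              rw [show (b * b') * (b' * b) = b * (b' * b') * b by group, hb'2, mul_one, hb2, mul_one]
          _ = c * (b' * b) := by rw [hc]; group
          _ = b' * b := by rw [h, one_mul]
      apply hbZ
      refine Subgroup.mem_inf.mpr ⟨hb, ?_⟩
      have h3 : b' * b * b' ∈ cj b B' := by rw [hbe]; exact h2
      have h4 : b' * b * b' = b := by rw [← hcm, mul_assoc, hb'2, mul_one]
      rw [h4, mem_cj, hbi, hb2, one_mul] at h3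
      exact h3
    refine ⟨b, b * c, hb2, ?_, ?_, ?_⟩
    · have hbx : ∀ x : L, b * (b * x) = x := fun x => by rw [← mul_assoc, hb2, one_mul]
      have hb'x : ∀ x : L, b' * (b' * x) = x := fun x => by rw [← mul_assoc, hb'2, one_mul]
      simp only [hc, mul_assoc, hbx, hb'x, hb2, hb'2, mul_one]
    · rwa [← mul_assoc, hb2, one_mul]
    · rwa [← mul_assoc, hb2, one_mul]

end Cfsg.Agent.Lib.Tech42.ClassTwoFactor
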